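import Mathlib

set_option autoImplicit false

namespace Groth.Agent.H5.DSD

open TensorProduct

universe u v

section

variable (R : Type*) (S : Type*) [CommRing R] [CommRing S] [Algebra R S] [Module.FaithfullyFlat R S]
  (M : Type*) [AddCommGroup M] [Module R M]

/-- Finite presentation of modules descends along faithfully flat maps (for finite projective base change). -/
theorem finite_projective_of_faithfullyFlat
    [Module.Finite S (S ⊗[R] M)] [Module.Projective S (S ⊗[R] M)] :
    Module.Finite R M ∧ Module.Projective R M := by
  haveI hfin : Module.Finite R M := Module.Finite.of_finite_tensorProduct_of_faithfullyFlat S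
  haveI : Module.Flat R M := Module.Flat.of_flat_tensorProduct R M S
  refine ⟨hfin, ?_⟩
  obtain ⟨n, f, hf⟩ := Module.Finite.exists_fin' R M
  let fS : S ⊗[R] (Fin n → R) →ₗ[S] S ⊗[R] M := AlgebraTensorModule.lTensor S S f
  have hfS : Function.Surjective fS := by
    change Function.Surjective (LinearMap.lTensor S f)
    exact LinearMap.lTensor_surjective S hf
  haveI : Module.FinitePresentation S (S ⊗[R] M) := Module.finitePresentation_of_projective _ _
  have hker : (LinearMap.ker fS).FG := Module.FinitePresentation.fg_ker fS hfS
  have hkereq : LinearMap.ker fS =
      LinearMap.range (AlgebraTensorModule.lTensor S S (LinearMap.ker f).subtype) :=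
    Module.Flat.ker_lTensor_eq S S f
  have hinj : Function.Injective (AlgebraTensorModule.lTensor S S (LinearMap.ker f).subtype) := by
    change Function.Injective (LinearMap.lTensor S (LinearMap.ker f).subtype)
    exact Module.Flat.lTensor_preserves_injective_linearMap _ (Submodule.injective_subtype _)
  haveI : Module.Finite S (S ⊗[R] ↥(LinearMap.ker f)) := by
    have e := LinearEquiv.ofInjective _ hinj
    have : Module.Finite S ↥(LinearMap.range
        (AlgebraTensorModule.lTensor S S (LinearMap.ker f).subtype)) := by
      rw [← hkereq]
      exact Module.Finite.iff_fg.mpr hker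
    exact Module.Finite.equiv e.symm
  haveI : Module.Finite R ↥(LinearMap.ker f) :=
    Module.Finite.of_finite_tensorProduct_of_faithfullyFlat S
  haveI : Module.FinitePresentation R M :=
    Module.finitePresentation_of_surjective f hf (Module.Finite.iff_fg.mp inferInstance)
  exact Module.Flat.projective_of_finitePresentation

end

end Groth.Agent.H5.DSD
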