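import Mathlib
import Groth.Agent.Lib.Helper5.SymPow.F
import Groth.Agent.Lib.Helper5.SymPow.C

set_option autoImplicit false

namespace Groth.Agent.H5.DSD

open TensorProduct

universe u v

section

variable {B B' ι : Type u} [CommRing B] [CommRing B'] [Algebra B B'] [Fintype ι] [Nonempty ι]
  {M : Type v} [AddCommGroup M] [Module B M]
  {M' : Type v} [AddCommGroup M'] [Module B M'] [Module B' M'] [IsScalarTower B B' M']

/-- `mapRange` along the algebra map. -/
noncomputable def mr : (M →₀ B) →ₗ[B] (M →₀ B') :=
  Finsupp.mapRange.linearMap (Algebra.linearMap B B')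

lemma linForm_mr (f : M →₀ B) :
    SymPow.linForm (Finsupp.basisSingleOne (R := B') (ι := M)) (mr (B' := B') f) =
      MvPolynomial.map (algebraMap B B')
        (SymPow.linForm (Finsupp.basisSingleOne (R := B) (ι := M)) f) := by
  induction f using Finsupp.induction_linear with
  | zero => simp
  | add f g hf hg => rw [map_add, map_add, map_add, map_add, hf, hg]
  | single m r =>
    have h1 : (Finsupp.single m r : M →₀ B) = r • Finsupp.basisSingleOne (R := B) (ι := M) m := by
      rw [Finsupp.coe_basisSingleOne, Finsupp.smul_single, smul_eq_mul, mul_one]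
    have h2 : mr (B' := B') (Finsupp.single m r : M →₀ B) =
        algebraMap B B' r • Finsupp.basisSingleOne (R := B') (ι := M) m := by
      rw [Finsupp.coe_basisSingleOne, Finsupp.smul_single, smul_eq_mul, mul_one]
      simp [mr, Finsupp.mapRange.linearMap_apply]
    rw [h2, h1, map_smul, map_smul, SymPow.linForm_basis, SymPow.linForm_basis,
      MvPolynomial.smul_eq_C_mul, MvPolynomial.smul_eq_C_mul, map_mul, MvPolynomial.map_C,
      MvPolynomial.map_X]

variable (hinj : Function.Injective (algebraMap B B')) [Module.Projective B M]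
  (κ : M →ₗ[B] M') (hκ : IsBaseChange B' κ)

include hinj hκ in
theorem symPow_baseChange_injective :
    Function.Injective (fun z : Sym[B] ι M =>
      SymPow.canAdd (R := B) (S := B') (ι := ι) (M := M') (SymPow.map κ z)) := by
  obtain ⟨s, hs⟩ := Module.projective_def'.mp (inferInstance : Module.Projective B M)
  let p : (M →₀ B) →ₗ[B] M := Finsupp.linearCombination B (id : M → M)
  let b : Module.Basis M B (M →₀ B) := Finsupp.basisSingleOne (R := B) (ι := M)
  let b' : Module.Basis M B' (M →₀ B') := Finsupp.basisSingleOne (R := B') (ι := M)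
  let s' : M' →ₗ[B'] (M →₀ B') := hκ.lift ((mr (B' := B') (M := M)) ∘ₗ s)
  have hs' : ∀ m, s' (κ m) = mr (B' := B') (s m) := fun m => hκ.lift_eq _ m
  have hsurj : Function.Surjective (algebraMap B B) := fun x => ⟨x, rfl⟩
  let L : Sym[B] ι M → MvPolynomial M B' := fun z =>
    MvPolynomial.map (algebraMap B B') (SymPow.theta (B₀ := B) (ι := ι) b (SymPow.map s z))
  let Rr : Sym[B] ι M → MvPolynomial M B' := fun z =>
    SymPow.theta (B₀ := B') (ι := ι) b' (SymPow.map s'
      (SymPow.canAdd (R := B) (S := B') (ι := ι) (M := M') (SymPow.map κ z)))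
  have hL : Function.Injective L := by
    intro z1 z2 h12
    have h1 := MvPolynomial.map_injective _ hinj h12
    have h2 := SymPow.theta_injective (B₀ := B) (ι := ι) b hsurj h1
    have h3 : ∀ z : Sym[B] ι M, SymPow.map p (SymPow.map s z) = z := by
      intro z
      rw [← LinearMap.comp_apply, ← SymPow.map_comp]
      have : p ∘ₗ s = LinearMap.id := hs
      rw [this, SymPow.map_id, LinearMap.id_apply]
    rw [← h3 z1, ← h3 z2, h2]
  have hLR : ∀ z, L z = Rr z := by
    intro z
    have hz : z ∈ Submodule.span B (Set.range (SymmetricPower.tprod B (ι := ι) (M := M))) := by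
      rw [SymmetricPower.span_tprod_eq_top]; trivial
    induction hz using Submodule.span_induction with
    | mem z hz =>
      obtain ⟨v, rfl⟩ := hz
      change MvPolynomial.map (algebraMap B B') (SymPow.theta (B₀ := B) (ι := ι) b
          (SymPow.map s (SymmetricPower.tprod B v))) =
        SymPow.theta (B₀ := B') (ι := ι) b' (SymPow.map s'
          (SymPow.canAdd (R := B) (S := B') (ι := ι) (M := M')
            (SymPow.map κ (SymmetricPower.tprod B v))))
      rw [SymPow.map_tprod, SymPow.theta_tprod, SymPow.map_tprod, SymPow.canAdd_tprod,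
        SymPow.map_tprod, SymPow.theta_tprod, map_prod]
      refine Finset.prod_congr rfl fun i _ => ?_
      rw [hs', linForm_mr]
    | zero =>
      change MvPolynomial.map (algebraMap B B') (SymPow.theta (B₀ := B) (ι := ι) b
          (SymPow.map s 0)) =
        SymPow.theta (B₀ := B') (ι := ι) b' (SymPow.map s'
          (SymPow.canAdd (R := B) (S := B') (ι := ι) (M := M') (SymPow.map κ 0)))
      simp only [map_zero]
    | add z1 z2 _ _ h1 h2 =>
      change MvPolynomial.map (algebraMap B B') (SymPow.theta (B₀ := B) (ι := ι) b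
          (SymPow.map s (z1 + z2))) =
        SymPow.theta (B₀ := B') (ι := ι) b' (SymPow.map s'
          (SymPow.canAdd (R := B) (S := B') (ι := ι) (M := M') (SymPow.map κ (z1 + z2))))
      simp only [map_add]
      exact congrArg₂ (· + ·) h1 h2
    | smul r z _ h1 =>
      change MvPolynomial.map (algebraMap B B') (SymPow.theta (B₀ := B) (ι := ι) b
          (SymPow.map s (r • z))) =
        SymPow.theta (B₀ := B') (ι := ι) b' (SymPow.map s'
          (SymPow.canAdd (R := B) (S := B') (ι := ι) (M := M') (SymPow.map κ (r • z))))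
      have e1 : SymPow.theta (B₀ := B) (ι := ι) b (SymPow.map s (r • z)) =
          MvPolynomial.C r * SymPow.theta (B₀ := B) (ι := ι) b (SymPow.map s z) := by
        rw [map_smul, map_smul, MvPolynomial.smul_eq_C_mul]
      have e2 : SymPow.theta (B₀ := B') (ι := ι) b' (SymPow.map s'
            (SymPow.canAdd (R := B) (S := B') (ι := ι) (M := M') (SymPow.map κ (r • z)))) =
          MvPolynomial.C (algebraMap B B' r) * SymPow.theta (B₀ := B') (ι := ι) b' (SymPow.map s'
            (SymPow.canAdd (R := B) (S := B') (ι := ι) (M := M') (SymPow.map κ z))) := by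
        rw [map_smul, SymPow.canAdd_smul, map_smul, map_smul, MvPolynomial.smul_eq_C_mul]
      rw [e1, e2, map_mul, MvPolynomial.map_C]
      exact congrArg _ h1
  intro z1 z2 h12
  apply hL
  rw [hLR z1, hLR z2]
  change SymPow.theta (B₀ := B') (ι := ι) b' (SymPow.map s'
      (SymPow.canAdd (R := B) (S := B') (ι := ι) (M := M') (SymPow.map κ z1))) =
    SymPow.theta (B₀ := B') (ι := ι) b' (SymPow.map s'
      (SymPow.canAdd (R := B) (S := B') (ι := ι) (M := M') (SymPow.map κ z2)))
  have h12' : SymPow.canAdd (R := B) (S := B') (ι := ι) (M := M') (SymPow.map κ z1) =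
      SymPow.canAdd (R := B) (S := B') (ι := ι) (M := M') (SymPow.map κ z2) := h12
  rw [h12']

end

end Groth.Agent.H5.DSD
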