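import Mathlib
import Groth.Prelude.Def_PP16
import Groth.Agent.Lib.Helper5.DSBC.F
import Groth.Agent.Lib.Helper5.DSD.A
import Groth.Agent.Lib.Helper5.DSD.B

set_option autoImplicit false

namespace Groth.Agent.H5.DSD

open TensorProduct

universe u

section

variable (A B A' B' : Type u) [CommRing A] [CommRing B] [Algebra A B]
    [CommRing A'] [CommRing B'] [Algebra A' B'] [Algebra A A'] [Algebra B B'] [Algebra A B']
    [IsScalarTower A A' B'] [IsScalarTower A B B'] [Algebra.IsPushout A B A' B']

theorem faithfullyFlat_of_isPushout [Module.FaithfullyFlat A A'] : Module.FaithfullyFlat B B' :=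
  Module.FaithfullyFlat.of_linearEquiv B (B ⊗[A] A')
    (Algebra.IsPushout.equiv A B A' B').symm.toLinearEquiv

theorem isBaseChange_kaehler_map :
    IsBaseChange B' (KaehlerDifferential.map A A' B B') := by
  haveI : Algebra.IsPushout A A' B B' := Algebra.IsPushout.symm inferInstance
  apply IsBaseChange.of_equiv (KaehlerDifferential.tensorKaehlerEquiv A A' B B')
  intro ω
  have hω : ω ∈ Submodule.span B (Set.range (KaehlerDifferential.D A B)) := by
    rw [KaehlerDifferential.span_range_derivation]; trivial
  induction hω using Submodule.span_induction with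
  | mem ω h =>
    obtain ⟨a, rfl⟩ := h
    rw [KaehlerDifferential.tensorKaehlerEquiv_tmul_D, one_smul, KaehlerDifferential.map_D]
  | zero => rw [tmul_zero, map_zero, map_zero]
  | add x y _ _ h1 h2 => rw [tmul_add, map_add, map_add, h1, h2]
  | smul b x _ h1 =>
    have e1 : (1 : B') ⊗ₜ[B] (b • x) = b • ((1 : B') ⊗ₜ[B] x) := TensorProduct.tmul_smul b 1 x
    have e2 : (KaehlerDifferential.tensorKaehlerEquiv A A' B B') (b • ((1 : B') ⊗ₜ[B] x)) =
        b • (KaehlerDifferential.tensorKaehlerEquiv A A' B B') ((1 : B') ⊗ₜ[B] x) :=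
      (KaehlerDifferential.tensorKaehlerEquiv A A' B B').toLinearMap.map_smul_of_tower b _
    rw [e1, e2, h1, map_smul]

theorem finite_projective_kaehler [Module.FaithfullyFlat A A']
    [Module.Projective B' (Ω[B'⁄A'])] [Module.Finite B' (Ω[B'⁄A'])] :
    Module.Finite B (Ω[B⁄A]) ∧ Module.Projective B (Ω[B⁄A]) := by
  haveI : Algebra.IsPushout A A' B B' := Algebra.IsPushout.symm inferInstance
  haveI : Module.FaithfullyFlat B B' := faithfullyFlat_of_isPushout A B A' B'
  haveI : Module.Finite B' (B' ⊗[B] Ω[B⁄A]) :=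
    Module.Finite.equiv (KaehlerDifferential.tensorKaehlerEquiv A A' B B').symm
  haveI : Module.Projective B' (B' ⊗[B] Ω[B⁄A]) :=
    Module.Projective.of_equiv (KaehlerDifferential.tensorKaehlerEquiv A A' B B').symm
  exact finite_projective_of_faithfullyFlat B B' (Ω[B⁄A])

end

end Groth.Agent.H5.DSD
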