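import Mathlib
import Groth.Prelude.Def_PP16
import Groth.Agent.Lib.Helper5.DSD.C

set_option autoImplicit false

namespace Groth.Agent.H5.DSD

open TensorProduct

universe u

section

variable (A B A' B' : Type u) [CommRing A] [CommRing B] [Algebra A B]
    [CommRing A'] [CommRing B'] [Algebra A' B'] [Algebra A A'] [Algebra B B'] [Algebra A B']
    [IsScalarTower A A' B'] [IsScalarTower A B B']

lemma tensorMap_smul (b : B) (y : B ⊗[A] B) :
    PP16.tensorMap A B A' B' (b • y) = algebraMap B B' b • PP16.tensorMap A B A' B' y := by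
  rw [Algebra.smul_def, Algebra.smul_def, map_mul, Algebra.TensorProduct.algebraMap_apply,
    Algebra.TensorProduct.algebraMap_apply, PP16.tensorMap_tmul, map_one]
  rfl

lemma tensorMap_mem_pow (k : ℕ) (y : B ⊗[A] B) (hy : y ∈ KaehlerDifferential.ideal A B ^ k) :
    PP16.tensorMap A B A' B' y ∈ KaehlerDifferential.ideal A' B' ^ k := by
  have h := Ideal.pow_right_mono (n := k) (PP16.ideal_map_tensorMap_le A B A' B')
  rw [← Ideal.map_pow] at h
  exact h (Ideal.mem_map_of_mem _ hy)

variable [Algebra.IsPushout A B A' B'] [Module.FaithfullyFlat A A']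

theorem isDiffSmooth_descent (h : PP16.IsDiffSmooth A' B')
    (hfin : Module.Finite B' (KaehlerDifferential A' B')) :
    PP16.IsDiffSmooth A B ∧ Module.Finite B (KaehlerDifferential A B) := by
  haveI := h.1
  haveI := hfin
  obtain ⟨hf, hp⟩ := finite_projective_kaehler A B A' B'
  haveI := hp
  refine ⟨?_, hf⟩
  haveI : Module.FaithfullyFlat B B' := faithfullyFlat_of_isPushout A B A' B'
  have hinj : Function.Injective (algebraMap B B') := FaithfulSMul.algebraMap_injective B B'
  apply GrSym.isDiffSmooth_of_cls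
  intro ι _ _
  obtain ⟨φ, hφ0⟩ := GrSym.exists_canonical (B₀ := B) (ι := ι) (KaehlerDifferential.ideal A B)
    (GrSym.Nn A B (Fintype.card ι)) (GrSym.Nn A B (Fintype.card ι + 1))
    (GrSym.hNn A B _) (GrSym.hNn A B _)
  have hφ : ∀ x : ι → KaehlerDifferential.ideal A B,
      φ (SymmetricPower.tprod B fun i => (KaehlerDifferential.ideal A B).toCotangent (x i)) =
        GrSym.cls (KaehlerDifferential.ideal A B) (GrSym.Nn A B (Fintype.card ι))
          (GrSym.Nn A B (Fintype.card ι + 1)) (GrSym.hNn A B _)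
          (∏ i, (x i : B ⊗[A] B)) (GrSym.prod_mem (KaehlerDifferential.ideal A B) x) := hφ0
  refine ⟨φ, hφ, ?_, GrSym.surjective_of_pinned (KaehlerDifferential.ideal A B) _ _
    (GrSym.hNn A B _) (GrSym.hNn A B _) (fun s => ⟨_, GrSym.sub_rho_mem A B s⟩) φ hφ⟩
  obtain ⟨φ', hφ', hbij'⟩ := GrSym.clsBijective_of_isDiffSmooth A' B' h ι
  let φΩ : Sym[B] ι (Ω[B⁄A]) →ₗ[B] (↥(GrSym.Nn A B (Fintype.card ι)) ⧸
      (GrSym.Nn A B (Fintype.card ι + 1)).comap (GrSym.Nn A B (Fintype.card ι)).subtype) := φ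
  let φΩ' : Sym[B'] ι (Ω[B'⁄A']) →ₗ[B'] (↥(GrSym.Nn A' B' (Fintype.card ι)) ⧸
      (GrSym.Nn A' B' (Fintype.card ι + 1)).comap (GrSym.Nn A' B' (Fintype.card ι)).subtype) := φ'
  have key : ∀ z : Sym[B] ι (Ω[B⁄A]),
      ∃ (y : B ⊗[A] B) (hy : y ∈ KaehlerDifferential.ideal A B ^ Fintype.card ι),
        φΩ z = GrSym.cls (KaehlerDifferential.ideal A B) (GrSym.Nn A B (Fintype.card ι))
          (GrSym.Nn A B (Fintype.card ι + 1)) (GrSym.hNn A B _) y hy ∧
        φΩ' (DSBC.bc A B A' B' ι z) =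
          GrSym.cls (KaehlerDifferential.ideal A' B') (GrSym.Nn A' B' (Fintype.card ι))
            (GrSym.Nn A' B' (Fintype.card ι + 1)) (GrSym.hNn A' B' _)
            (PP16.tensorMap A B A' B' y) (tensorMap_mem_pow A B A' B' _ y hy) := by
    intro z
    have hz : z ∈ Submodule.span B (Set.range fun c : ι → B =>
        SymmetricPower.tprod B fun i => KaehlerDifferential.D A B (c i)) := by
      have := SymPow.span_tprod_comp (R := B) (ι := ι)
        (fun c : B => KaehlerDifferential.D A B c) (KaehlerDifferential.span_range_derivation A B)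
      rw [this]; trivial
    induction hz using Submodule.span_induction with
    | mem z hz =>
      obtain ⟨c, rfl⟩ := hz
      refine ⟨_, _, hφ (fun i => GrSym.δ A B (c i)), ?_⟩
      rw [DSBC.bc_tprod]
      have := hφ' (fun i => GrSym.δ A' B' (algebraMap B B' (c i)))
      refine this.trans ?_
      apply GrSym.cls_congr'
      rw [map_prod]
      refine Finset.prod_congr rfl fun i _ => ?_
      change ((1 : B') ⊗ₜ[A'] algebraMap B B' (c i) - algebraMap B B' (c i) ⊗ₜ[A'] (1 : B')) =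
        PP16.tensorMap A B A' B' ((1 : B) ⊗ₜ[A] c i - c i ⊗ₜ[A] (1 : B))
      rw [map_sub, PP16.tensorMap_tmul, PP16.tensorMap_tmul, map_one]
    | zero =>
      refine ⟨0, zero_mem _, by rw [φΩ.map_zero]; rfl, ?_⟩
      have e0 : DSBC.bc A B A' B' ι 0 = 0 := map_zero _
      rw [e0, φΩ'.map_zero]
      exact (GrSym.cls_congr' (KaehlerDifferential.ideal A' B') _ _ (GrSym.hNn A' B' _)
        (map_zero _) _ (zero_mem _)).symm
    | add z1 z2 _ _ h1 h2 =>
      obtain ⟨y1, hy1, e1, f1⟩ := h1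
      obtain ⟨y2, hy2, e2, f2⟩ := h2
      refine ⟨y1 + y2, add_mem hy1 hy2, by rw [φΩ.map_add, e1, e2]; rfl, ?_⟩
      have e0 : DSBC.bc A B A' B' ι (z1 + z2) = DSBC.bc A B A' B' ι z1 + DSBC.bc A B A' B' ι z2 :=
        map_add _ _ _
      rw [e0, φΩ'.map_add, f1, f2]
      exact (GrSym.cls_congr' (KaehlerDifferential.ideal A' B') _ _ (GrSym.hNn A' B' _)
        (map_add _ y1 y2) _ (add_mem (tensorMap_mem_pow A B A' B' _ y1 hy1)
          (tensorMap_mem_pow A B A' B' _ y2 hy2))).symm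
    | smul b z _ h1 =>
      obtain ⟨y, hy, e, f⟩ := h1
      have hby : b • y ∈ KaehlerDifferential.ideal A B ^ Fintype.card ι := by
        rw [Algebra.smul_def]; exact Ideal.mul_mem_left _ _ hy
      refine ⟨b • y, hby, by rw [φΩ.map_smul, e]; rfl, ?_⟩
      rw [DSBC.bc_smul, φΩ'.map_smul, f]
      have hby' : algebraMap B B' b • PP16.tensorMap A B A' B' y ∈
          KaehlerDifferential.ideal A' B' ^ Fintype.card ι := by
        rw [Algebra.smul_def]
        exact Ideal.mul_mem_left _ _ (tensorMap_mem_pow A B A' B' _ y hy)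
      exact (GrSym.cls_congr' (KaehlerDifferential.ideal A' B') _ _ (GrSym.hNn A' B' _)
        (tensorMap_smul A B A' B' b y) _ hby').symm
  rw [injective_iff_map_eq_zero]
  intro z hz
  obtain ⟨y, hy, e, f⟩ := key z
  have hz' : φΩ z = 0 := hz
  rw [hz'] at e
  have hy1 : y ∈ KaehlerDifferential.ideal A B ^ (Fintype.card ι + 1) :=
    (GrSym.cls_eq_zero_iff (KaehlerDifferential.ideal A B) (GrSym.Nn A B (Fintype.card ι))
      (GrSym.Nn A B (Fintype.card ι + 1)) (GrSym.hNn A B _) (GrSym.hNn A B _) y hy).mp e.symm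
  have hy2 := tensorMap_mem_pow A B A' B' _ y hy1
  rw [GrSym.cls_eq_zero (KaehlerDifferential.ideal A' B') _ _ (GrSym.hNn A' B' _)
    (GrSym.hNn A' B' _) _ _ hy2] at f
  have hbc0 : DSBC.bc A B A' B' ι z = 0 := by
    apply hbij'.1
    change φΩ' _ = φΩ' 0
    rw [f, φΩ'.map_zero]
  have hinjbc := symPow_baseChange_injective (ι := ι) hinj (KaehlerDifferential.map A A' B B')
    (isBaseChange_kaehler_map A B A' B')
  have h00 : DSBC.bc A B A' B' ι (0 : Sym[B] ι (Ω[B⁄A])) = 0 := map_zero _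
  exact hinjbc (hbc0.trans h00.symm)

end

end Groth.Agent.H5.DSD
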